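import Groth.Agent.Lib.HilbStrat10.Vanish
import Groth.Agent.Lib.GrowthBd20.Main
import Groth.Agent.Lib.Seesaw26.LocalGood
import Groth.Prelude.Def_LCI2
import Groth.Agent.Lib.Ample.RelAmple

/-!
# Uniform vanishing of the fibre ranks of high powers of a relatively ample module
-/

set_option autoImplicit false
set_option linter.all false
set_option backward.isDefEq.respectTransparency false
set_option maxHeartbeats 1000000

universe u

open CategoryTheory Limits AlgebraicGeometry Opposite TopologicalSpace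

noncomputable section

namespace GrothLib.S1498H

theorem isFP_of_isInvertible {X : Scheme.{u}} {L : X.Modules} (hL : PicF.IsInvertible L) : CohB1.IsFP L :=
  haveI := InvExt.isQuasicoherent_of_isInvertible hL
  LocFree8.isFP_of_isFinLocFree _ (Euler.isFinLocFree_of_isInvertible hL)

/-- Over a Noetherian affine base the fibre ranks of high twists of a flat coherent module vanish. -/
theorem exists_fiberRank_twist_eq_zero {R : Type u} [CommRing R] [IsNoetherianRing R] {X : Scheme.{u}}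
    (f : X ⟶ Spec (CommRingCat.of R)) [IsProper f] {L : X.Modules} (hL : CohB1.IsAmple L)
    {G : X.Modules} (hG : Coh.IsCoh G) (hfl : FlatMod.IsFlatOver f G) :
    ∃ Q : ℕ, ∀ q, Q ≤ q → (CohB1.tensorMod G (CohB1.tensorPow L q)).IsQuasicoherent ∧
      ∀ (s : Spec (CommRingCat.of R)) (p : ℕ), 1 ≤ p →
        CohIII.fiberRank f (CohB1.tensorMod G (CohB1.tensorPow L q)) p s = 0 := by
  haveI : IsLocallyNoetherian X := LocallyOfFiniteType.isLocallyNoetherian f
  haveI := hG.1
  haveI : EnoughInjectives X.Modules := SheafCoh.enoughInjectives_sheafOfModules X.ringCatSheaf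
  have hGfp : CohB1.IsFP G := QCoh.isFinitePresentation_of_isFiniteType G hG.2
  have hA : IsAffineOpen (⊤ : (Spec (CommRingCat.of R)).Opens) := isAffineOpen_top _
  obtain ⟨Q, hQ⟩ := RelVanish.exists_forall_subsingleton_preimage f hL.1 hA
    ((Ample.isAmple_restrict_top_iff L (f.preimage_top)).mpr hL) hG
  refine ⟨Q, fun q hq => ?_⟩
  let M := CohB1.tensorMod G (CohB1.tensorPow L q)
  have hM : CohB1.IsFP M :=
    EulerConst10.isFP_tensorPows hGfp (t := 1) (fun _ => L) (fun _ => hL.1) (fun _ => q)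
  haveI : M.IsQuasicoherent := SemiPrufer.qcoh_of_isFP hM
  have hMfl : FlatMod.IsFlatOver f M :=
    EulerConst10.isFlatOver_tF f (Ample.isInvertible_tensorPow hL.1 q) hfl
  refine ⟨‹_›, fun s p hp => HilbStrat10.fiberRank_eq_zero_of_isZero_Rpush f hM hMfl (fun j hj => ?_) s p hp⟩
  exact RelVanish.isZero_Rpush_of_cover f M j (fun _ : Unit => (⊤ : (Spec (CommRingCat.of R)).Opens))
    (fun _ => hA) (fun _ => ⟨(), trivial⟩) (fun _ => hQ q hq j hj)

/-- Over an affine base the fibre ranks of high powers of an ample module vanish. -/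
theorem exists_fiberRank_pow_eq_zero_affine {A : Type u} [CommRing A] {X : Scheme.{u}}
    (f : X ⟶ Spec (CommRingCat.of A)) [IsProper f] [Flat f] [LocallyOfFinitePresentation f] {L : X.Modules}
    (hL : CohB1.IsAmple L) :
    ∃ N : ℕ, ∀ m, N ≤ m → ∀ (s : Spec (CommRingCat.of A)) (p : ℕ), 1 ≤ p →
      CohIII.fiberRank f (CohB1.tensorPow L m) p s = 0 := by
  obtain ⟨d, n, ι, hι, hd, hif, ⟨eι⟩⟩ := HilbDesc10.exists_embedding f hL
  have hr : ∀ r : Fin d, ∃ Q : ℕ, ∀ q, Q ≤ q → ∀ (s : Spec (CommRingCat.of A)) (p : ℕ), 1 ≤ p →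
      CohIII.fiberRank f (CohB1.tensorPow L ((r : ℕ) + d * q)) p s = 0 := by
    intro r
    have hLr := Ample.isInvertible_tensorPow hL.1 (r : ℕ)
    obtain ⟨P, G, hG, hGfl, ⟨e⟩⟩ := HilbDesc10.exists_flat_model f ι hif eι _ (isFP_of_isInvertible hLr)
      (Seesaw26.isFlatOver_of_isInvertible f hLr)
    obtain ⟨Q, hQ⟩ := exists_fiberRank_twist_eq_zero P.f₀ P.ample hG hGfl
    refine ⟨Q, fun q hq s p hp => ?_⟩
    obtain ⟨hqc, hz⟩ := hQ q hq
    obtain ⟨e₁⟩ := P.nonempty_pullback_twist e q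
    obtain ⟨e₂⟩ := Snapper.nonempty_tensorPow_add L (r : ℕ) (d * q)
    obtain ⟨e₃⟩ := Snapper.nonempty_tensorPow_mul L d q
    rw [GrowthBd.fiberRank_congr f (e₂ ≪≫ ((DCoh.tensorBi (X := X)).obj _).mapIso e₃.symm ≪≫ e₁.symm) p s,
      HilbStrat10.fiberRank_baseChange P.pb]
    exact hz _ p hp
  choose Q hQ using hr
  refine ⟨d * (Finset.univ.sup Q + 1), fun m hm => ?_⟩
  have h2 : Finset.univ.sup Q + 1 ≤ m / d := (Nat.le_div_iff_mul_le hd).2 (by rwa [mul_comm])
  have h3 := hQ ⟨m % d, Nat.mod_lt m hd⟩ (m / d)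
    ((Finset.le_sup (f := Q) (Finset.mem_univ (⟨m % d, Nat.mod_lt m hd⟩ : Fin d))).trans (by omega))
  simpa only [Nat.mod_add_div m d] using h3

variable {X S : Scheme.{u}} (f : X ⟶ S)

open BCCoh (affBase)

theorem isPullback_affBase {V : S.Opens} (hV : IsAffineOpen V) :
    IsPullback (f ⁻¹ᵁ V).ι (affBase f hV) f hV.fromSpec := by
  refine (isPullback_morphismRestrict f V).flip.of_iso (Iso.refl _) (Iso.refl _) hV.isoSpec (Iso.refl _)
    (by simp) (by simp [affBase]) (by simp) ?_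
  simp [IsAffineOpen.isoSpec_hom, hV.toSpecΓ_fromSpec]

/-- **Uniform vanishing of the fibre ranks of high powers of a relatively ample module.** -/
theorem exists_fiberRank_pow_eq_zero [IsProper f] [Flat f] [LocallyOfFinitePresentation f] [CompactSpace S]
    {L : X.Modules} (hL : RelAmple.IsRelAmple f L) :
    ∃ N : ℕ, ∀ m, N ≤ m → ∀ (s : S) (p : ℕ), 1 ≤ p → CohIII.fiberRank f (CohB1.tensorPow L m) p s = 0 := by
  have hLi := Ample.isInvertible_of_isRelAmple hL
  have hloc : ∀ s : S, ∃ V : S.Opens, s ∈ V ∧ ∃ N : ℕ, ∀ m, N ≤ m → ∀ t ∈ V, ∀ p : ℕ, 1 ≤ p →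
      CohIII.fiberRank f (CohB1.tensorPow L m) p t = 0 := by
    intro s
    obtain ⟨V, hV, hs, -⟩ := exists_isAffineOpen_mem_and_subset (show s ∈ (⊤ : S.Opens) from trivial)
    have H := isPullback_affBase f hV
    haveI : IsProper (affBase f hV) := MorphismProperty.of_isPullback (P := @IsProper) H ‹_›
    haveI : Flat (affBase f hV) := MorphismProperty.of_isPullback (P := @Flat) H ‹_›
    haveI : LocallyOfFinitePresentation (affBase f hV) :=
      MorphismProperty.of_isPullback (P := @LocallyOfFinitePresentation) H ‹_›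
    obtain ⟨N, hN⟩ := exists_fiberRank_pow_eq_zero_affine (affBase f hV) (hL.2 ⟨V, hV⟩)
    refine ⟨V, hs, N, fun m hm t ht p hp => ?_⟩
    obtain ⟨t', rfl⟩ : t ∈ Set.range hV.fromSpec := by rw [hV.range_fromSpec]; exact ht
    haveI := InvExt.isQuasicoherent_of_isInvertible (Ample.isInvertible_tensorPow hLi m)
    obtain ⟨e⟩ := Ample.nonempty_pullback_tensorPow (f ⁻¹ᵁ V).ι hLi m
    obtain ⟨e'⟩ := HilbDesc10.nonempty_tensorPow_congr
      ((Scheme.Modules.restrictFunctorIsoPullback (f ⁻¹ᵁ V).ι).app L).symm m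
    exact (HilbStrat10.fiberRank_baseChange H (CohB1.tensorPow L m) p t').symm.trans
      ((GrowthBd.fiberRank_congr (affBase f hV) (e ≪≫ e') p t').trans (hN m hm t' p hp))
  choose V hV N hN using hloc
  obtain ⟨T, hT⟩ := isCompact_univ.elim_finite_subcover (fun s : S => (V s : Set S)) (fun s => (V s).2)
    (fun s _ => Set.mem_iUnion.2 ⟨s, hV s⟩)
  refine ⟨T.sup N, fun m hm t p hp => ?_⟩
  obtain ⟨s, hsT, hts⟩ := Set.mem_iUnion₂.1 (hT (Set.mem_univ t))
  exact hN s m ((Finset.le_sup hsT).trans hm) t hts p hp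

/-- A bound on all the degrees of cohomology over affines and local freeness, from vanishing fibre ranks. -/
theorem subsingleton_HHon_and_isFinLocFree [IsProper f] [LocallyOfFinitePresentation f] {M : X.Modules}
    (hM : CohB1.IsFP M) (hfl : FlatMod.IsFlatOver f M)
    (h : ∀ (s : S) (p : ℕ), 1 ≤ p → CohIII.fiberRank f M p s = 0) :
    (∀ (U : S.Opens) (p : ℕ), IsAffineOpen U → 0 < p → Subsingleton (Coh.HHon X M (f ⁻¹ᵁ U) p)) ∧
      FlatMod.IsFinLocFree ((Scheme.Modules.pushforward f).obj M) := by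
  haveI : M.IsQuasicoherent := SemiPrufer.qcoh_of_isFP hM
  haveI : Coh.IsQCoh M := SemiPrufer.qcoh_of_isFP hM
  haveI : EnoughInjectives X.Modules := SheafCoh.enoughInjectives_sheafOfModules X.ringCatSheaf
  refine ⟨fun U p hU hp => ?_, fun s => ?_⟩
  · refine RelVanish.subsingleton_HHon_of_isZero_Rpush f M p hU ?_
    refine (OX.isZero_iff _).2 fun y => ?_
    obtain ⟨W, hyW, ⟨φ⟩, -⟩ := BCCrit.exists_zero_near hM hfl p y (h y p hp)
    have hz := BCCrit.isZero_restrict_of_free_zero ((Coh.Rpush f p).obj M) W fun z hz => ⟨W, hz, ⟨φ⟩⟩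
    rw [IsZero.iff_id_eq_zero, ← CategoryTheory.Functor.map_id]
    obtain ⟨y', rfl⟩ : y ∈ Set.range W.ι := by simpa using hyW
    exact OX.stalk_map_zero_of_restrictZero W.ι _ y' (hz.eq_of_src _ _)
  · obtain ⟨U, n, hsU, hφ, -⟩ := BCCrit.exists_free_near0 hM hfl s (HilbStrat10.goodAll_zero f s (h s 1 le_rfl))
    exact ⟨U, n, hsU, hφ⟩

end GrothLib.S1498H
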